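import Groth.Agent.CohenLib.FSAdic
import Groth.Agent.CohenLib.GeomRed
import Groth.Agent.CohenLib.PSHom
import Mathlib.RingTheory.AdicCompletion.LocalRing

/-!
Completions of local algebras with geometrically reduced residue field.
-/

set_option autoImplicit false
set_option maxHeartbeats 800000
set_option maxRecDepth 4096
set_option linter.style.haveILetI false
universe u
open IsLocalRing

namespace Groth.Agent.CoefFieldLib

theorem main (k A : Type u) [Field k] [CommRing A] [Algebra k A]
    [IsNoetherianRing A] [IsLocalRing A] [Algebra.IsGeometricallyReduced k (IsLocalRing.ResidueField A)] :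
    ∃ (n : ℕ) (I : Ideal (MvPowerSeries (Fin n) (IsLocalRing.ResidueField A)))
      (e : (MvPowerSeries (Fin n) (IsLocalRing.ResidueField A) ⧸ I) ≃ₐ[k]
        AdicCompletion (IsLocalRing.maximalIdeal A) A),
      ∀ a : A, e (Ideal.Quotient.mk I (MvPowerSeries.C (IsLocalRing.residue A a))) -
          algebraMap A (AdicCompletion (IsLocalRing.maximalIdeal A) A) a ∈
        (IsLocalRing.maximalIdeal A).map (algebraMap A (AdicCompletion (IsLocalRing.maximalIdeal A) A)) := by
  classical
  set m := maximalIdeal A
  set C := AdicCompletion m A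
  set M : Ideal C := m.map (algebraMap A C) with hM
  have hfg : m.FG := IsNoetherian.noetherian m
  haveI : IsAdicComplete M C := AdicCompletion.isAdicComplete_self m hfg
  haveI := CohenLib.formallySmooth_of_isGeometricallyReduced k (ResidueField A)
  haveI : IsHausdorff (M.map (Ideal.Quotient.mk M)) (C ⧸ M) := by
    rw [Ideal.map_quotient_self]; infer_instance
  let w : ResidueField A →ₐ[k] C ⧸ M :=
    Ideal.Quotient.liftₐ m ((Ideal.Quotient.mkₐ k M).comp (IsScalarTower.toAlgHom k A C))
      fun a ha => Ideal.Quotient.eq_zero_iff_mem.mpr (Ideal.mem_map_of_mem _ ha)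
  have hFS : EGA41.IsFormallySmoothAdic k ⊥ (ResidueField A) ⊥ :=
    fun _ _ _ J hJ _ u _ => Algebra.FormallySmooth.exists_lift J hJ u
  obtain ⟨s, -, hs⟩ := CohenLib.exists_lift_adicComplete (C := C) ⊥ ⊥ M hFS
    ⟨1, by rw [pow_one, Ideal.map_bot]; exact bot_le⟩ M ⟨1, by rw [pow_one]⟩ w
    ⟨1, by rw [pow_one, Ideal.map_bot]; exact bot_le⟩
  have hsa : ∀ a : A, s (residue A a) - algebraMap A C a ∈ M := fun a => by
    rw [← Ideal.Quotient.eq]
    exact AlgHom.congr_fun hs (residue A a)
  obtain ⟨n, x, hx⟩ := Submodule.fg_iff_exists_fin_generating_family.1 hfg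
  let y : Fin n → C := fun i => algebraMap A C (x i)
  have hy : ∀ i, y i ∈ M := fun i => Ideal.mem_map_of_mem _ (hx ▸ Submodule.subset_span ⟨i, rfl⟩)
  let ψ := CohenLib.psHom M s.toRingHom y hy
  have hψC : ∀ c, ψ (MvPowerSeries.C c) = s c := fun c => CohenLib.psHom_C M _ y hy c
  have hsurj : Function.Surjective ψ := by
    haveI := CohenLib.isAdicComplete_varsIdeal (n := n) (ResidueField A)
    refine CohenLib.surjective_of_complete M (CohenLib.varsIdeal (ResidueField A) n) ψ ?_ fun r => ?_
    · rw [CohenLib.varsIdeal, Ideal.map_span, ← Set.range_comp, hM]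
      refine Eq.trans ?_ (congrArg (Ideal.map (algebraMap A C)) (hx : Ideal.span (Set.range x) = m))
      rw [Ideal.map_span, ← Set.range_comp]
      congr 2
      funext i
      exact CohenLib.psHom_X M _ y hy i
    · obtain ⟨a, ha⟩ := Ideal.Quotient.mk_surjective (AdicCompletion.evalOneₐ m r)
      refine ⟨MvPowerSeries.C (residue A a), ?_⟩
      rw [hψC]
      have h1 : r - algebraMap A C a ∈ M := by
        rw [hM, ← AdicCompletion.ker_evalOneₐ_eq_map m hfg, RingHom.mem_ker, map_sub]
        show AdicCompletion.evalOneₐ m r - AdicCompletion.evalOneₐ m (algebraMap A C a) = 0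
        rw [AlgHom.commutes, sub_eq_zero]
        exact ha.symm
      have := sub_mem h1 (hsa a)
      rwa [sub_sub_sub_cancel_right] at this
  let ψ' : MvPowerSeries (Fin n) (ResidueField A) →ₐ[k] C :=
    { ψ with
      commutes' := fun c => by
        show ψ (algebraMap k (MvPowerSeries (Fin n) (ResidueField A)) c) = _
        rw [show algebraMap k (MvPowerSeries (Fin n) (ResidueField A)) c =
          MvPowerSeries.C (algebraMap k (ResidueField A) c) from MvPowerSeries.algebraMap_apply, hψC]
        exact s.commutes c }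
  refine ⟨n, RingHom.ker ψ', Ideal.quotientKerAlgEquivOfSurjective (f := ψ') hsurj, fun a => ?_⟩
  show ψ' (MvPowerSeries.C (residue A a)) - algebraMap A C a ∈ M
  show ψ _ - _ ∈ M
  rw [hψC]
  exact hsa a

end Groth.Agent.CoefFieldLib
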